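/-
The normalizer of a subgroup of prime order on which some element acts as a primitive root.
-/
import Mathlib.GroupTheory.Sylow
import Mathlib.GroupTheory.SpecificGroups.Cyclic

set_option autoImplicit false

namespace CfsgLib.Spor.M24Model

variable {X : Type*} [Group X] [Finite X]

theorem card_normalizer_of_primitive {p : ℕ} [Fact p.Prime] {b n : X} (hb : orderOf b = p) {r : ℕ}
    (hn : n * b * n⁻¹ = b ^ r) (hr : ∀ i, 0 < i → i < p - 1 → ¬ r ^ i ≡ 1 [MOD p]) :
    Nat.card (Subgroup.normalizer ((Subgroup.zpowers b : Subgroup X) : Set X)) =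
      (p - 1) * Nat.card (Subgroup.centralizer ((Subgroup.zpowers b : Subgroup X) : Set X)) := by
  classical
  set B := Subgroup.zpowers b with hB
  have hcard : Nat.card B = p := by rw [hB, Nat.card_zpowers, hb]
  let φ := B.normalizerMonoidHom
  let gb : B := ⟨b, Subgroup.mem_zpowers b⟩
  have hgen : ∀ a a' : MulAut B, a gb = a' gb → a = a' := by
    intro a a' h
    ext ⟨x, hx⟩
    obtain ⟨i, rfl⟩ := hx
    rw [show (⟨b ^ i, _⟩ : B) = gb ^ i from rfl, map_zpow, map_zpow, h]
  have haut : Nat.card (MulAut B) ≤ p - 1 := by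
    let f : MulAut B → {x : B // x ≠ 1} := fun a => ⟨a gb, fun h => by
      have e := a.map_eq_one_iff.1 h
      have : b = 1 := congrArg Subtype.val e
      rw [this, orderOf_one] at hb
      exact (Nat.Prime.one_lt Fact.out).ne hb⟩
    refine (Nat.card_le_card_of_injective f fun a a' h => hgen a a' (congrArg Subtype.val h)).trans_eq ?_
    haveI := Fintype.ofFinite B
    rw [Nat.card_eq_fintype_card, Fintype.card_subtype_compl, Fintype.card_subtype_eq,
      ← Nat.card_eq_fintype_card, hcard]
  have hnm : n ∈ Subgroup.normalizer (B : Set X) := by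
    have hmap : B.map (MulAut.conj n).toMonoidHom = B := by
      refine Subgroup.eq_of_le_of_card_ge ?_ ?_
      · rw [hB, MonoidHom.map_zpowers, Subgroup.zpowers_le]
        show n * b * n⁻¹ ∈ _
        rw [hn]
        exact Subgroup.pow_mem _ (Subgroup.mem_zpowers b) r
      · rw [Subgroup.card_map_of_injective (MulAut.conj n).injective]
    rw [Subgroup.mem_normalizer_iff]
    intro x
    constructor
    · intro hx
      rw [← hmap]
      exact ⟨x, hx, rfl⟩
    · intro hx
      rw [← hmap] at hx
      obtain ⟨y, hy, e⟩ := hx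
      simp only [MulEquiv.coe_toMonoidHom, MulAut.conj_apply] at e
      rwa [← mul_left_cancel (mul_right_cancel e)]
  have hpow : ∀ i : ℕ, ((φ ⟨n, hnm⟩ ^ i) gb : X) = b ^ (r ^ i) := by
    intro i
    induction i with
    | zero => simp [gb]
    | succ i ih =>
      rw [pow_succ', MulAut.mul_apply]
      show n * (((φ ⟨n, hnm⟩ ^ i) gb : B) : X) * n⁻¹ = _
      rw [ih, ← conj_pow, hn, ← pow_mul, pow_succ']
  have hord : p - 1 ≤ orderOf (φ ⟨n, hnm⟩) := by
    by_contra h
    refine hr _ (orderOf_pos (φ ⟨n, hnm⟩)) (not_le.1 h) ?_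
    have e := hpow (orderOf (φ ⟨n, hnm⟩))
    rw [pow_orderOf_eq_one] at e
    have e' : b ^ (r ^ orderOf (φ ⟨n, hnm⟩)) = b ^ 1 := by rw [← e, pow_one]; rfl
    exact hb ▸ pow_eq_pow_iff_modEq.1 e'
  have hrange : Nat.card φ.range = p - 1 := by
    refine le_antisymm ((Subgroup.card_le_card_group _).trans haut) (hord.trans ?_)
    refine le_of_eq_of_le (Nat.card_zpowers _).symm (Subgroup.card_le_of_le ?_)
    rw [Subgroup.zpowers_le]
    exact ⟨_, rfl⟩
  have hC : Subgroup.centralizer (B : Set X) ≤ Subgroup.normalizer (B : Set X) :=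
    Subgroup.centralizer_le_normalizer _
  rw [← Subgroup.card_mul_index φ.ker, Subgroup.index_ker, hrange, Subgroup.normalizerMonoidHom_ker,
    Nat.card_congr (Subgroup.subgroupOfEquivOfLe hC).toEquiv, mul_comm]

end CfsgLib.Spor.M24Model
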